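import Mathlib

/-!
# Lifting a residual basis along a flat local algebra

`A` is a local ring with finitely generated maximal ideal `m`, `R` an `A`-algebra, `B` a flat
`A`-algebra with an `A`-algebra map `θ : R → B`, and `res : B → K` kills exactly `mB`, the
kernel of `res ∘ θ` being `mR`.  Then ideals of `R` are contracted from `B` up to every power
of `m`.
-/

set_option linter.unusedSectionVars false

namespace Groth.Agent.ResExt

universe u

open IsLocalRing

variable {A : Type u} [CommRing A] [IsLocalRing A]

theorem exists_minimal_generators {I : Ideal A} (hI : I.FG) :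
    ∃ (m : ℕ) (a : Fin m → A), Ideal.span (Set.range a) = I ∧
      ∀ c : Fin m → A, ∑ k, c k * a k = 0 → ∀ k, c k ∈ maximalIdeal A := by
  classical
  have h : ∃ m, ∃ a : Fin m → A, Ideal.span (Set.range a) = I :=
    Submodule.fg_iff_exists_fin_generating_family.1 hI
  obtain ⟨a, ha⟩ := Nat.find_spec h
  refine ⟨_, a, ha, fun c hc k => by_contra fun hk => ?_⟩
  obtain ⟨m, hm⟩ : ∃ m, Nat.find h = m + 1 := ⟨Nat.find h - 1, by have := k.isLt; omega⟩
  revert a c k hc hk ha
  rw [hm]
  intro a ha c hc k hk
  refine Nat.find_min h (show m < Nat.find h by omega) ⟨a ∘ k.succAbove, ?_⟩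
  refine le_antisymm (ha ▸ Ideal.span_mono (Set.range_comp_subset_range _ _)) ?_
  rw [← ha, Ideal.span_le]
  rintro _ ⟨j, rfl⟩
  rcases Fin.eq_self_or_eq_succAbove k j with rfl | ⟨j, rfl⟩
  · rw [Fin.sum_univ_succAbove _ j] at hc
    obtain ⟨v, hv⟩ := notMem_maximalIdeal.1 hk
    have : a j = (↑v⁻¹ : A) * -∑ i, c (j.succAbove i) * a (j.succAbove i) := by
      rw [← eq_neg_of_add_eq_zero_left hc, ← mul_assoc, ← hv, Units.inv_mul, one_mul]
    rw [SetLike.mem_coe, this]
    exact Ideal.mul_mem_left _ _ (neg_mem (Ideal.sum_mem _ fun i _ =>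
      Ideal.mul_mem_left _ _ (Ideal.subset_span ⟨i, rfl⟩)))
  · exact Ideal.subset_span ⟨j, rfl⟩

variable {B : Type u} [CommRing B] [Algebra A B]

theorem exists_combination {m : ℕ} {a : Fin m → A} {z : B}
    (hz : z ∈ (Ideal.span (Set.range a)).map (algebraMap A B)) :
    ∃ c : Fin m → B, z = ∑ k, algebraMap A B (a k) * c k := by
  rw [Ideal.map_span, ← Set.range_comp, Ideal.mem_span_range_iff_exists_fun] at hz
  obtain ⟨c, rfl⟩ := hz
  exact ⟨c, Finset.sum_congr rfl fun k _ => mul_comm _ _⟩

theorem exists_combination_mul {m : ℕ} {a : Fin m → A} {M : Ideal B} {z : B}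
    (hz : z ∈ (Ideal.span (Set.range a)).map (algebraMap A B) * M) :
    ∃ w : Fin m → B, (∀ k, w k ∈ M) ∧ z = ∑ k, algebraMap A B (a k) * w k := by
  refine Submodule.mul_induction_on hz (fun p hp q hq => ?_) ?_
  · obtain ⟨c, rfl⟩ := exists_combination hp
    exact ⟨fun k => c k * q, fun k => M.mul_mem_left _ hq,
      by simp only [Finset.sum_mul, mul_assoc]⟩
  · rintro _ _ ⟨w, hw, rfl⟩ ⟨w', hw', rfl⟩
    exact ⟨w + w', fun k => add_mem (hw k) (hw' k),
      by simp [mul_add, Finset.sum_add_distrib]⟩

/-- The coefficients of a vanishing leading form over minimal generators lie in `mB`. -/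
theorem mem_map_of_leading [Module.Flat A B] {n m : ℕ} {a : Fin m → A}
    (ha : Ideal.span (Set.range a) = maximalIdeal A ^ n)
    (hmin : ∀ c : Fin m → A, ∑ k, c k * a k = 0 → ∀ k, c k ∈ maximalIdeal A)
    (y : Fin m → B)
    (hy : ∑ k, algebraMap A B (a k) * y k ∈ (maximalIdeal A ^ (n + 1)).map (algebraMap A B))
    (k : Fin m) : y k ∈ (maximalIdeal A).map (algebraMap A B) := by
  rw [pow_succ, Ideal.map_mul, ← ha] at hy
  obtain ⟨w, hw, hsum⟩ := exists_combination_mul hy
  obtain ⟨κ, _, α, t, h1, h2⟩ : ∃ (κ : Type u) (_ : Fintype κ) (α : Fin m → κ → A) (t : κ → B),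
      (∀ i, y i - w i = ∑ j, α i j • t j) ∧ ∀ j, ∑ i, a i * α i j = 0 := by
    obtain ⟨l, α, t, h1, h2⟩ := Module.Flat.isTrivialRelation_of_sum_smul_eq_zero (R := A)
      (f := a) (x := fun i => y i - w i) (by
        simp only [Algebra.smul_def, mul_sub, Finset.sum_sub_distrib, hsum, sub_self])
    exact ⟨ULift.{u} (Fin l), inferInstance, fun i j => α i j.down, fun j => t j.down,
      fun i => (h1 i).trans (Equiv.ulift.sum_comp fun j => α i j • t j).symm, fun j => h2 j.down⟩
  rw [← sub_add_cancel (y k) (w k), h1 k]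
  refine add_mem (Ideal.sum_mem _ fun j _ => ?_) (hw k)
  rw [Algebra.smul_def]
  exact Ideal.mul_mem_right _ _ (Ideal.mem_map_of_mem _
    (hmin (fun i => α i j) (by simpa only [mul_comm] using h2 j) k))

variable {R : Type u} [CommRing R] [Algebra A R] [IsLocalRing R] {K : Type u} [Field K]

/-- Ideals of `R` are contracted from `B` modulo every power of `m`. -/
theorem mem_sup_pow_of_map_mem [Module.Flat A B] (hm : (maximalIdeal A).FG) (θ : R →ₐ[A] B)
    (res : B →+* K) (hres : Function.Surjective res)
    (hker : ∀ b, res b = 0 → b ∈ (maximalIdeal A).map (algebraMap A B))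
    (hker' : ∀ b ∈ (maximalIdeal A).map (algebraMap A B), res b = 0)
    (hR : maximalIdeal R = (maximalIdeal A).map (algebraMap A R))
    (J : Ideal R) (x : R) (n : ℕ)
    (hx : θ x ∈ J.map θ.toRingHom ⊔ (maximalIdeal A ^ n).map (algebraMap A B)) :
    x ∈ J ⊔ (maximalIdeal A ^ n).map (algebraMap A R) := by
  classical
  let M : ℕ → Ideal B := fun n => (maximalIdeal A ^ n).map (algebraMap A B)
  let MR : ℕ → Ideal R := fun n => (maximalIdeal A ^ n).map (algebraMap A R)
  have hθ0 : ∀ r ∈ maximalIdeal R, res (θ r) = 0 := fun r hr => by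
    refine hker' _ ?_
    rw [hR] at hr
    have := Ideal.mem_map_of_mem θ.toRingHom hr
    rwa [Ideal.map_map, AlgHom.toRingHom_eq_coe, AlgHom.comp_algebraMap] at this
  have : IsLocalHom (res.comp θ.toRingHom) :=
    ⟨fun r hr => notMem_maximalIdeal.1 fun h => hr.ne_zero (hθ0 r h)⟩
  let ρ : ResidueField R →+* K := ResidueField.lift (res.comp θ.toRingHom)
  letI : Algebra (ResidueField R) K := ρ.toAlgebra
  let bas := Module.Free.chooseBasis (ResidueField R) K
  choose e he using fun i => hres (bas i)
  let comb : (Module.Free.ChooseBasisIndex (ResidueField R) K →₀ R) →+ B :=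
    Finsupp.liftAddHom fun i => (AddMonoidHom.mulRight (e i)).comp θ.toRingHom.toAddMonoidHom
  have hcomb1 : ∀ i r, comb (Finsupp.single i r) = θ r * e i := fun i r => by simp [comb]
  have hcomb2 : ∀ (r : R) c, θ r * comb c = comb (r • c) := by
    intro r c
    induction c using Finsupp.induction_linear with
    | zero => simp
    | add f g hf hg => rw [map_add, mul_add, hf, hg, smul_add, map_add]
    | single i s => rw [hcomb1, Finsupp.smul_single, hcomb1, smul_eq_mul, map_mul, mul_assoc]
  have hres' : ∀ c, res (comb c) =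
      Finsupp.linearCombination (ResidueField R) bas (c.mapRange (residue R) (map_zero _)) := by
    intro c
    induction c using Finsupp.induction_linear with
    | zero => simp
    | add f g hf hg =>
      rw [map_add, map_add, hf, hg, Finsupp.mapRange_add (map_add (residue R)), map_add]
    | single i s =>
      rw [hcomb1, Finsupp.mapRange_single, Finsupp.linearCombination_single, map_mul, he]
      rfl
  have hindep : ∀ c, res (comb c) = 0 → ∀ i, c i ∈ maximalIdeal R := by
    intro c hc i
    rw [hres'] at hc
    have h := DFunLike.congr_fun (bas.linearIndependent.finsuppLinearCombination_injective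
      (hc.trans (map_zero _).symm)) i
    rw [Finsupp.mapRange_apply, Finsupp.zero_apply] at h
    exact (residue_eq_zero_iff _).1 h
  have hspan : ∀ n (b : B), ∃ c, b - comb c ∈ M n := by
    intro n
    induction n with
    | zero => exact fun b => ⟨0, by simp [M, Ideal.map_top]⟩
    | succ n ih =>
      intro b
      obtain ⟨c, hc⟩ := ih b
      obtain ⟨m, a, ha, -⟩ := exists_minimal_generators (hm.pow (n := n))
      obtain ⟨z, hz⟩ := exists_combination (a := a) (by rw [ha]; exact hc)
      have h1 : ∀ k, ∃ d, z k - comb d ∈ (maximalIdeal A).map (algebraMap A B) := by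
        intro k
        choose g hg using fun i => residue_surjective (bas.repr (res (z k)) i)
        refine ⟨Finsupp.onFinset (bas.repr (res (z k))).support
          (fun i => if bas.repr (res (z k)) i = 0 then 0 else g i) (fun i hi => ?_), hker _ ?_⟩
        · rw [Finsupp.mem_support_iff]
          intro h
          simp [h] at hi
        · rw [map_sub, hres', sub_eq_zero]
          conv_lhs => rw [← bas.linearCombination_repr (res (z k))]
          congr 1
          ext i
          rw [Finsupp.mapRange_apply, Finsupp.onFinset_apply]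
          split_ifs with h
          · rw [h, map_zero]
          · rw [hg]
      choose d hd using h1
      refine ⟨c + ∑ k, algebraMap A R (a k) • d k, ?_⟩
      have : b - comb (c + ∑ k, algebraMap A R (a k) • d k) =
          ∑ k, algebraMap A B (a k) * (z k - comb (d k)) := by
        simp only [map_add, map_sum, ← hcomb2, AlgHom.commutes, mul_sub, Finset.sum_sub_distrib,
          ← hz]
        abel
      rw [this]
      simp only [M, pow_succ, Ideal.map_mul]
      refine Ideal.sum_mem _ fun k _ => Ideal.mul_mem_mul (Ideal.mem_map_of_mem _ ?_) (hd k)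
      rw [← ha]; exact Ideal.subset_span ⟨k, rfl⟩
  have hfree : ∀ n c, comb c ∈ M n → ∀ i, c i ∈ MR n := by
    intro n
    induction n with
    | zero => intro c _ i; simp [MR, Ideal.map_top]
    | succ n ih =>
      intro c hc i
      have hc' : comb c ∈ M n :=
        Ideal.map_mono (Ideal.pow_le_pow_right n.le_succ) hc
      obtain ⟨m, a, ha, hmin⟩ := exists_minimal_generators (hm.pow (n := n))
      have h1 : ∀ j, ∃ r : Fin m → R, c j = ∑ k, algebraMap A R (a k) * r k := fun j =>
        exists_combination (by rw [ha]; exact ih c hc' j)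
      choose r hr using h1
      let cc : Fin m → _ →₀ R := fun k =>
        Finsupp.onFinset c.support (fun j => if c j = 0 then 0 else r j k) (fun j hj => by
          rw [Finsupp.mem_support_iff]; intro h; simp [h] at hj)
      have hcc : c = ∑ k, algebraMap A R (a k) • cc k := by
        ext j
        simp only [Finsupp.coe_finsetSum, Finset.sum_apply, Finsupp.smul_apply, smul_eq_mul, cc,
          Finsupp.onFinset_apply]
        split_ifs with h
        · simp [h]
        · exact hr j
      have hsum : ∑ k, algebraMap A B (a k) * comb (cc k) ∈ M (n + 1) := by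
        convert! hc using 1
        conv_rhs => rw [hcc]
        simp only [map_sum, ← hcomb2, AlgHom.commutes]
      have hk : ∀ k, cc k i ∈ (maximalIdeal A).map (algebraMap A R) := fun k => hR ▸
        hindep _ (hker' _ (mem_map_of_leading ha hmin _ hsum k)) i
      rw [hcc]
      simp only [Finsupp.coe_finsetSum, Finset.sum_apply, Finsupp.smul_apply, smul_eq_mul, MR,
        pow_succ, Ideal.map_mul]
      refine Ideal.sum_mem _ fun k _ => Ideal.mul_mem_mul (Ideal.mem_map_of_mem _ ?_) (hk k)
      rw [← ha]; exact Ideal.subset_span ⟨k, rfl⟩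
  obtain ⟨u, hu⟩ := hspan n 1
  have hun : ∃ i, u i ∉ maximalIdeal R ∨ n = 0 := by
    by_cases hn : n = 0
    · obtain ⟨i⟩ : Nonempty (Module.Free.ChooseBasisIndex (ResidueField R) K) :=
        bas.index_nonempty
      exact ⟨i, .inr hn⟩
    by_contra h
    push Not at h
    have h0 : res (comb u) = 0 := by
      rw [hres', show u.mapRange (residue R) (map_zero _) = 0 from
        Finsupp.ext fun i => (residue_eq_zero_iff _).2 (h i).1, map_zero]
    have h1 : res (1 - comb u) = 0 :=
      hker' _ (Ideal.map_mono (Ideal.pow_le_self hn) hu)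
    rw [map_sub, h0, map_one, sub_zero] at h1
    exact one_ne_zero h1
  obtain ⟨i, hi⟩ := hun
  obtain ⟨p, hp, q, hq, hpq⟩ := Submodule.mem_sup.1 hx
  have hp' : ∃ c, (∀ j, c j ∈ J) ∧ p - comb c ∈ M n := by
    clear hpq
    rw [Ideal.map, Ideal.span] at hp
    induction hp using Submodule.span_induction with
    | mem y hy =>
      obtain ⟨j, hj, rfl⟩ := hy
      refine ⟨j • u, fun k => J.mul_mem_right _ hj, ?_⟩
      rw [← hcomb2]
      convert! (M n).mul_mem_left (θ j) hu using 1
      rw [mul_sub, mul_one]; rfl
    | zero => exact ⟨0, fun _ => J.zero_mem, by simp⟩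
    | add y y' _ _ h h' =>
      obtain ⟨c, hc, hc'⟩ := h
      obtain ⟨d, hd, hd'⟩ := h'
      exact ⟨c + d, fun k => J.add_mem (hc k) (hd k), by
        rw [map_add]; convert! add_mem hc' hd' using 1; abel⟩
    | smul b y _ h =>
      obtain ⟨c, hc, hc'⟩ := h
      choose d hd using fun k => hspan n (b * e k)
      refine ⟨∑ k ∈ c.support, c k • d k, fun j => ?_, ?_⟩
      · simp only [Finsupp.coe_finsetSum, Finset.sum_apply, Finsupp.smul_apply, smul_eq_mul]
        exact J.sum_mem fun k _ => J.mul_mem_right _ (hc k)
      · have h1 : comb c = ∑ k ∈ c.support, θ (c k) * e k := by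
          conv_lhs => rw [← c.sum_single, Finsupp.sum, map_sum]
          simp only [hcomb1]
        have : b * y - comb (∑ k ∈ c.support, c k • d k) =
            b * (y - comb c) + ∑ k ∈ c.support, θ (c k) * (b * e k - comb (d k)) := by
          simp only [map_sum, ← hcomb2, h1, mul_sub, Finset.sum_sub_distrib, Finset.mul_sum,
            mul_left_comm b]
          abel
        rw [smul_eq_mul, this]
        exact add_mem ((M n).mul_mem_left _ hc')
          (Ideal.sum_mem _ fun k _ => (M n).mul_mem_left _ (hd k))
  obtain ⟨c, hc, hc'⟩ := hp'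
  have hdiff : comb (x • u - c) ∈ M n := by
    have : comb (x • u - c) = (p - comb c) + q - θ x * (1 - comb u) := by
      rw [map_sub, ← hcomb2, mul_sub, mul_one, ← hpq]; ring
    rw [this]
    exact sub_mem (add_mem hc' hq) ((M n).mul_mem_left _ hu)
  have hmem := hfree n _ hdiff i
  rcases hi with hi | rfl
  · obtain ⟨v, hv⟩ := notMem_maximalIdeal.1 hi
    have hxe : x = (↑v⁻¹ : R) * c i + ↑v⁻¹ * (x • u - c) i := by
      rw [Finsupp.sub_apply, Finsupp.smul_apply, smul_eq_mul, ← hv, ← mul_add, add_sub_cancel,
        mul_left_comm, Units.inv_mul, mul_one]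
    rw [hxe]
    exact Submodule.add_mem_sup (J.mul_mem_left _ (hc i)) (Ideal.mul_mem_left _ _ hmem)
  · exact Submodule.mem_sup_right (by simp [Ideal.map_top])

end Groth.Agent.ResExt
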