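import Groth.Agent.ResExt.Step
import Groth.Agent.ResExt.Approx
import Groth.Agent.AdicLim.Noetherian

/-!
# Residue field extensions: the local algebra `B`
-/

set_option linter.unusedSectionVars false

namespace Groth.Agent.ResExt

universe u

noncomputable section

open MvPolynomial IsLocalRing

variable {A K : Type u} [CommRing A] [IsLocalRing A] [Field K] [Algebra (ResidueField A) K]
  [Algebra A K] [IsScalarTower A (ResidueField A) K] [LinearOrder K] [WellFoundedLT K]

namespace Eqns

variable (E : Eqns A K)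

/-- A stage containing a given finite set of variables. -/
theorem exists_stage (T : Finset K) :
    ∃ (D : Finset K) (R : Type u) (_ : CommRing R) (_ : Algebra A R) (_ : IsLocalRing R)
      (θ : R →ₐ[A] E.B) (ψ : P A K →ₐ[A] R), T ⊆ D ∧
      (IsNoetherianRing A → IsNoetherianRing R) ∧ Module.Flat A R ∧
      maximalIdeal R = (maximalIdeal A).map (algebraMap A R) ∧
      (∀ y ∈ D, ψ (E.F y) = 0) ∧
      ∀ p ∈ supported A (D : Set K), θ (ψ p) = E.mkB p := by
  obtain ⟨D, hT, hD⟩ := E.exists_closed T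
  obtain ⟨R, i1, i2, i3, hN, hflat, hR, θ, ψ, hψ, -⟩ := E.good_of_closed D hD
  exact ⟨D, R, i1, i2, i3, θ, ψ, hT, hN, hflat, hR, fun y hy => (hψ y hy).1, fun p hp =>
    AlgHom.adjoin_le_equalizer (θ.comp ψ) E.mkB
      (by rintro _ ⟨y, hy, rfl⟩; exact (hψ y hy).2) hp⟩

theorem mem_supported_of_subset {T D : Finset K} (h : T ⊆ D) {p : P A K} (hp : p.vars ⊆ T) :
    p ∈ supported A (D : Set K) :=
  mem_supported.2 (Finset.coe_subset.2 (hp.trans h))

theorem exists_common_fraction {n : ℕ} (b : Fin n → E.B) :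
    ∃ (q : P A K) (p : Fin n → P A K), ev A K q ≠ 0 ∧ ∀ i, E.mkB q * b i = E.mkB (p i) := by
  choose p s hs h using fun i => E.exists_fraction (b i)
  refine ⟨∏ i, s i, fun i => p i * ∏ j ∈ Finset.univ.erase i, s j, ?_, fun i => ?_⟩
  · rw [map_prod]
    exact Finset.prod_ne_zero_iff.2 fun i _ => hs i
  · rw [← Finset.mul_prod_erase _ s (Finset.mem_univ i), map_mul, map_mul, ← h i]
    ring

instance flat : Module.Flat A E.B := by
  classical
  refine Module.Flat.of_forall_isTrivialRelation fun {l f x} hfx => ?_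
  obtain ⟨q, p, hq, hp⟩ := E.exists_common_fraction x
  have h0 : E.mkB (∑ i, C (f i) * p i) = 0 := by
    rw [map_sum]
    have : ∀ i, E.mkB (C (f i) * p i) = E.mkB q * (f i • x i) := fun i => by
      rw [map_mul, ← hp i, Algebra.smul_def, show C (f i) = algebraMap A (P A K) (f i) from rfl,
        AlgHom.commutes]
      ring
    simp only [this, ← Finset.mul_sum, hfx, mul_zero]
  obtain ⟨s, hs, hmem⟩ := (E.mkB_eq_zero_iff _).1 h0
  obtain ⟨a, ha⟩ := Finsupp.mem_span_range_iff_exists_finsupp.1 hmem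
  obtain ⟨D, R, _, _, _, θ, ψ, hT, -, hflat, hR, hF, hθψ⟩ :=
    E.exists_stage (a.support ∪ s.vars ∪ q.vars ∪ Finset.univ.biUnion fun i => (p i).vars)
  have hsup : ∀ {r : P A K}, r.vars ⊆ a.support ∪ s.vars ∪ q.vars ∪
      (Finset.univ.biUnion fun i => (p i).vars) → r ∈ supported A (D : Set K) :=
    fun h => mem_supported_of_subset hT h
  have hunit : ∀ {r : P A K}, r ∈ supported A (D : Set K) → ev A K r ≠ 0 → IsUnit (ψ r) :=
    fun hr h => E.isUnit_of_stage hR θ (by rwa [hθψ _ hr, E.res_mkB])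
  obtain ⟨v, hv⟩ := hunit (hsup (r := q) fun z hz => by simp [hz]) hq
  obtain ⟨w, hw⟩ := hunit (hsup (r := s) fun z hz => by simp [hz]) hs
  have hrel : ∑ i, f i • (((v⁻¹ : Rˣ) : R) * ψ (p i)) = 0 := by
    have h1 := congrArg ψ ha
    rw [map_finsuppSum, map_mul, map_sum, ← hw] at h1
    have h2 : (a.sum fun y c => ψ (c • E.F y)) = 0 := Finset.sum_eq_zero fun y hy => by
      simp only [smul_eq_mul, map_mul]
      rw [hF y (hT (by simp [hy])), mul_zero]
    rw [h2, eq_comm, IsUnit.mul_right_eq_zero w.isUnit] at h1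
    calc ∑ i, f i • (((v⁻¹ : Rˣ) : R) * ψ (p i))
        = ((v⁻¹ : Rˣ) : R) * ∑ i, ψ (C (f i) * p i) := by
          rw [Finset.mul_sum]
          refine Finset.sum_congr rfl fun i _ => ?_
          rw [map_mul, show C (f i) = algebraMap A (P A K) (f i) from rfl, AlgHom.commutes,
            Algebra.smul_def]
          ring
      _ = 0 := by rw [h1, mul_zero]
  obtain ⟨k, α, t, h1, h2⟩ := Module.Flat.isTrivialRelation_of_sum_smul_eq_zero (R := A) hrel
  refine ⟨k, α, fun j => θ (t j), fun i => ?_, h2⟩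
  have h3 := congrArg θ (h1 i)
  simp only [map_mul, map_sum, map_smul] at h3
  rw [← h3, hθψ _ (hsup fun z hz => ?_), ← hp i, ← hθψ q (hsup fun z hz => by simp [hz]), ← hv,
    ← mul_assoc, ← map_mul, Units.inv_mul, map_one, one_mul]
  simp only [Finset.mem_union, Finset.mem_biUnion]
  exact .inr ⟨i, Finset.mem_univ _, hz⟩

theorem exists_lift {n : ℕ} (b : Fin n → E.B) :
    ∃ (R : Type u) (_ : CommRing R) (_ : Algebra A R) (_ : IsLocalRing R) (θ : R →ₐ[A] E.B),
      (IsNoetherianRing A → IsNoetherianRing R) ∧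
      maximalIdeal R = (maximalIdeal A).map (algebraMap A R) ∧ ∀ i, ∃ r, θ r = b i := by
  classical
  obtain ⟨q, p, hq, hp⟩ := E.exists_common_fraction b
  obtain ⟨D, R, i1, i2, i3, θ, ψ, hT, hN, -, hR, -, hθψ⟩ :=
    E.exists_stage (q.vars ∪ Finset.univ.biUnion fun i => (p i).vars)
  have hqs : q ∈ supported A (D : Set K) :=
    mem_supported_of_subset hT fun z hz => by simp [hz]
  obtain ⟨v, hv⟩ := E.isUnit_of_stage hR θ (r := ψ q) (by rwa [hθψ _ hqs, E.res_mkB])
  refine ⟨R, i1, i2, i3, θ, hN, hR, fun i => ⟨((v⁻¹ : Rˣ) : R) * ψ (p i), ?_⟩⟩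
  rw [map_mul, hθψ _ (mem_supported_of_subset hT fun z hz => ?_), ← hp i, ← hθψ q hqs, ← hv,
    ← mul_assoc, ← map_mul, Units.inv_mul, map_one, one_mul]
  simp only [Finset.mem_union, Finset.mem_biUnion]
  exact .inr ⟨i, Finset.mem_univ _, hz⟩

theorem res_eq_zero_iff (b : E.B) :
    E.res b = 0 ↔ b ∈ (maximalIdeal A).map (algebraMap A E.B) := by
  refine ⟨fun hb => ?_, algHom_eq_zero_of_mem_map E.res⟩
  obtain ⟨R, _, _, _, θ, -, hR, hlift⟩ := E.exists_lift ![b]
  obtain ⟨r, hr⟩ := hlift 0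
  rw [Matrix.cons_val_zero] at hr
  subst hr
  have hr' : r ∈ maximalIdeal R :=
    (IsLocalRing.mem_maximalIdeal r).2 fun hu => ((hu.map θ).map E.res).ne_zero hb
  have := Ideal.mem_map_of_mem θ.toRingHom (hR ▸ hr')
  rwa [Ideal.map_map, AlgHom.toRingHom_eq_coe, AlgHom.comp_algebraMap] at this

theorem maximalIdeal_eq :
    maximalIdeal E.B = (maximalIdeal A).map (algebraMap A E.B) := by
  ext b
  rw [← E.res_eq_zero_iff, IsLocalRing.mem_maximalIdeal, mem_nonunits_iff, E.isUnit_iff, not_not]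

instance : IsLocalHom (algebraMap A E.B) :=
  ⟨fun a ha => notMem_maximalIdeal.1 fun h => (ha.map E.res).ne_zero <| by
    rw [AlgHom.commutes]; exact algebraMap_eq_zero_of_mem h⟩

theorem mem_of_forall_mem_sup_pow [IsNoetherianRing A] {J : Ideal E.B} (hJ : J.FG) {x : E.B}
    (hx : ∀ n : ℕ, x ∈ J ⊔ maximalIdeal E.B ^ n) : x ∈ J := by
  classical
  obtain ⟨m, g, hg⟩ := Submodule.fg_iff_exists_fin_generating_family.1 hJ
  obtain ⟨R, _, _, _, θ, hN, hR, hlift⟩ := E.exists_lift (Fin.cons x g)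
  obtain ⟨x', hx'⟩ := hlift 0
  choose g' hg' using fun i => hlift (Fin.succ i)
  simp only [Fin.cons_zero, Fin.cons_succ] at hx' hg'
  let J' : Ideal R := Ideal.span (Set.range g')
  have hJ' : J'.map θ.toRingHom = J := by
    rw [Ideal.map_span, ← Set.range_comp, show ⇑θ.toRingHom ∘ g' = g from funext hg']
    exact hg
  have hmem : ∀ n : ℕ, x' ∈ J' ⊔ maximalIdeal R ^ n := by
    intro n
    rw [hR, ← Ideal.map_pow]
    refine mem_sup_pow_of_map_mem (IsNoetherian.noetherian _) θ E.res.toRingHom E.res_surjective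
      (fun b => (E.res_eq_zero_iff b).1) (fun b => (E.res_eq_zero_iff b).2) hR J' x' n ?_
    rw [hJ', hx', Ideal.map_pow, ← E.maximalIdeal_eq]
    exact hx n
  have := hN inferInstance
  have hle : J' ≤ maximalIdeal R ∨ J' = ⊤ := (em (J' = ⊤)).symm.imp_left le_maximalIdeal
  have : x' ∈ J' := by
    rcases hle with hle | hle
    swap
    · rw [hle]; trivial
    have : Nontrivial (R ⧸ J') :=
      Ideal.Quotient.nontrivial_iff.2 (ne_top_of_le_ne_top (maximalIdeal.isMaximal R).ne_top hle)
    have := IsLocalRing.of_surjective' (Ideal.Quotient.mk J') Ideal.Quotient.mk_surjective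
    have hne : (maximalIdeal R).map (Ideal.Quotient.mk J') ≠ ⊤ := fun h => by
      have h1 := congrArg (Ideal.comap (Ideal.Quotient.mk J')) h
      rw [Ideal.comap_top, Ideal.comap_map_of_surjective _ Ideal.Quotient.mk_surjective,
        ← RingHom.ker_eq_comap_bot, Ideal.mk_ker, sup_eq_left.2 hle] at h1
      exact (maximalIdeal.isMaximal R).ne_top h1
    rw [← Ideal.Quotient.eq_zero_iff_mem, ← Submodule.mem_bot (R ⧸ J'),
      ← Ideal.iInf_pow_eq_bot_of_isLocalRing _ hne, Submodule.mem_iInf]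
    intro n
    rw [← Ideal.map_pow]
    obtain ⟨p, hp, q, hq, hpq⟩ := Submodule.mem_sup.1 (hmem n)
    rw [← hpq, map_add, Ideal.Quotient.eq_zero_iff_mem.2 hp, zero_add]
    exact Ideal.mem_map_of_mem _ hq
  have h := Ideal.mem_map_of_mem θ.toRingHom this
  rw [hJ'] at h
  rw [← hx']
  exact h

theorem isNoetherianRing [IsNoetherianRing A] : IsNoetherianRing E.B := by
  classical
  let M := maximalIdeal E.B
  have hM : M.FG := by
    change (maximalIdeal E.B).FG
    rw [E.maximalIdeal_eq]
    exact Ideal.FG.map (IsNoetherian.noetherian (maximalIdeal A)) (algebraMap A E.B)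
  have : IsAdicComplete M (AdicCompletion M E.B) := AdicCompletion.isAdicComplete hM
  have : IsAdicComplete (M.map (algebraMap E.B (AdicCompletion M E.B)))
      (AdicCompletion M E.B) := (IsAdicComplete.map_algebraMap_iff M (AdicCompletion M E.B)).2 this
  have : IsNoetherianRing
      (AdicCompletion M E.B ⧸ M.map (algebraMap E.B (AdicCompletion M E.B))) := by
    have hsurj : Function.Surjective (AdicCompletion.evalOneₐ M).toRingHom := fun y => by
      obtain ⟨b, rfl⟩ := Ideal.Quotient.mk_surjective y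
      exact ⟨AdicCompletion.of M E.B b, AdicCompletion.evalOneₐ_of M b⟩
    have : IsNoetherianRing (E.B ⧸ M) := by
      letI := Ideal.Quotient.field (maximalIdeal E.B)
      exact (inferInstance : IsNoetherianRing (E.B ⧸ maximalIdeal E.B))
    rw [← AdicCompletion.ker_evalOneₐ_eq_map M hM]
    exact isNoetherianRing_of_ringEquiv _
      (RingHom.quotientKerEquivOfSurjective hsurj).symm
  have : IsNoetherianRing (AdicCompletion M E.B) :=
    AdicLim.isNoetherianRing_of_isAdicComplete (hM.map (algebraMap E.B (AdicCompletion M E.B)))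
  constructor
  intro I
  obtain ⟨T, hT, hspan⟩ := (Submodule.fg_span_iff_fg_span_finset_subset
    (R := AdicCompletion M E.B) (algebraMap E.B (AdicCompletion M E.B) '' (I : Set E.B))).1
    (IsNoetherian.noetherian _)
  obtain ⟨U, hU, rfl⟩ := Finset.subset_set_image_iff.1 hT
  have hle : Ideal.span (U : Set E.B) ≤ I := Ideal.span_le.2 hU
  suffices I = Ideal.span (U : Set E.B) by rw [this]; exact ⟨U, rfl⟩
  refine le_antisymm (fun x hx => E.mem_of_forall_mem_sup_pow ⟨U, rfl⟩ fun n => ?_) hle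
  have h1 : algebraMap E.B (AdicCompletion M E.B) x ∈
      (Ideal.span (U : Set E.B)).map (algebraMap E.B (AdicCompletion M E.B)) := by
    rw [Ideal.map_span]
    have : algebraMap E.B (AdicCompletion M E.B) x ∈
        Submodule.span (AdicCompletion M E.B) (algebraMap E.B _ '' (I : Set E.B)) :=
      Submodule.subset_span ⟨x, hx, rfl⟩
    rw [hspan, Finset.coe_image] at this
    exact this
  have h2 := Ideal.mem_map_of_mem (AdicCompletion.evalₐ M n).toRingHom h1
  rw [Ideal.map_map, AlgHom.toRingHom_eq_coe, AlgHom.comp_algebraMap, RingHom.coe_coe,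
    AlgHom.commutes, Ideal.Quotient.algebraMap_eq, Ideal.mem_quotient_iff_mem_sup] at h2
  exact h2

/-- The residue field of `B` is `K`. -/
def residueEquiv : (E.B ⧸ (maximalIdeal A).map (algebraMap A E.B)) ≃+* K :=
  (Ideal.quotEquivOfEq (show (maximalIdeal A).map (algebraMap A E.B) = RingHom.ker E.res.toRingHom
    from Ideal.ext fun b => (E.res_eq_zero_iff b).symm.trans RingHom.mem_ker.symm)).trans
    (RingHom.quotientKerEquivOfSurjective (f := E.res.toRingHom) E.res_surjective)

theorem residueEquiv_mk (b : E.B) : E.residueEquiv (Ideal.Quotient.mk _ b) = E.res b := rfl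

end Eqns

end

end Groth.Agent.ResExt
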