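import Groth.Agent.ResExt.Approx
import Groth.Agent.AdicLim.Noetherian

/-!
# A Noetherian criterion for flat local algebras exhausted by Noetherian local algebras
-/

namespace Groth.Agent.ResExt

universe u

open IsLocalRing

variable {A B : Type u} [CommRing A] [IsLocalRing A] [IsNoetherianRing A] [CommRing B]
  [IsLocalRing B] [Algebra A B] [Module.Flat A B]

/-- A flat local algebra over a Noetherian local ring `(A, m)` with maximal ideal `mB` is Noetherian
if its finite subsets lift to Noetherian local `A`-algebras with maximal ideal `mR`. -/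
theorem isNoetherianRing_of_lifts
    (hmax : maximalIdeal B = (maximalIdeal A).map (algebraMap A B))
    (hlift : ∀ {n : ℕ} (b : Fin n → B), ∃ (R : Type u) (_ : CommRing R) (_ : Algebra A R)
      (_ : IsLocalRing R) (θ : R →ₐ[A] B), IsNoetherianRing R ∧
      maximalIdeal R = (maximalIdeal A).map (algebraMap A R) ∧ ∀ i, ∃ r, θ r = b i) :
    IsNoetherianRing B := by
  classical
  have hM : (maximalIdeal B).FG := by
    rw [hmax]; exact Ideal.FG.map (IsNoetherian.noetherian (maximalIdeal A)) (algebraMap A B)
  have hclosed : ∀ (J : Ideal B), J.FG → ∀ x, (∀ n : ℕ, x ∈ J ⊔ maximalIdeal B ^ n) → x ∈ J := by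
    intro J hJ x hx
    obtain ⟨m, g, hg⟩ := Submodule.fg_iff_exists_fin_generating_family.1 hJ
    obtain ⟨R, _, _, _, θ, _, hR, hl⟩ := hlift (Fin.cons x g)
    obtain ⟨x', hx'⟩ := hl 0
    choose g' hg' using fun i => hl (Fin.succ i)
    simp only [Fin.cons_zero, Fin.cons_succ] at hx' hg'
    let J' : Ideal R := Ideal.span (Set.range g')
    have hJ' : J'.map θ.toRingHom = J := by
      rw [Ideal.map_span, ← Set.range_comp, show ⇑θ.toRingHom ∘ g' = g from funext hg']
      exact hg
    have hres : ∀ b, residue B b = 0 ↔ b ∈ (maximalIdeal A).map (algebraMap A B) := fun b => by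
      rw [residue_eq_zero_iff, hmax]
    have hmem : ∀ n : ℕ, x' ∈ J' ⊔ maximalIdeal R ^ n := by
      intro n
      rw [hR, ← Ideal.map_pow]
      refine mem_sup_pow_of_map_mem (IsNoetherian.noetherian _) θ (residue B) residue_surjective
        (fun b => (hres b).1) (fun b => (hres b).2) hR J' x' n ?_
      rw [hJ', hx', Ideal.map_pow, ← hmax]
      exact hx n
    have : x' ∈ J' := by
      by_cases htop : J' = ⊤
      · rw [htop]; trivial
      have : Nontrivial (R ⧸ J') := Ideal.Quotient.nontrivial_iff.2 htop
      have := IsLocalRing.of_surjective' (Ideal.Quotient.mk J') Ideal.Quotient.mk_surjective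
      have hne : (maximalIdeal R).map (Ideal.Quotient.mk J') ≠ ⊤ := fun h => by
        have h1 := congrArg (Ideal.comap (Ideal.Quotient.mk J')) h
        rw [Ideal.comap_top, Ideal.comap_map_of_surjective _ Ideal.Quotient.mk_surjective,
          ← RingHom.ker_eq_comap_bot, Ideal.mk_ker, sup_eq_left.2 (le_maximalIdeal htop)] at h1
        exact (maximalIdeal.isMaximal R).ne_top h1
      rw [← Ideal.Quotient.eq_zero_iff_mem, ← Submodule.mem_bot (R ⧸ J'),
        ← Ideal.iInf_pow_eq_bot_of_isLocalRing _ hne, Submodule.mem_iInf]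
      intro n
      rw [← Ideal.map_pow]
      obtain ⟨p, hp, q, hq, hpq⟩ := Submodule.mem_sup.1 (hmem n)
      rw [← hpq, map_add, Ideal.Quotient.eq_zero_iff_mem.2 hp, zero_add]
      exact Ideal.mem_map_of_mem _ hq
    have h := Ideal.mem_map_of_mem θ.toRingHom this
    rw [hJ'] at h
    rw [← hx']
    exact h
  let M := maximalIdeal B
  have : IsAdicComplete M (AdicCompletion M B) := AdicCompletion.isAdicComplete hM
  have : IsAdicComplete (M.map (algebraMap B (AdicCompletion M B))) (AdicCompletion M B) :=
    (IsAdicComplete.map_algebraMap_iff M (AdicCompletion M B)).2 this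
  have : IsNoetherianRing (AdicCompletion M B ⧸ M.map (algebraMap B (AdicCompletion M B))) := by
    have hsurj : Function.Surjective (AdicCompletion.evalOneₐ M).toRingHom := fun y => by
      obtain ⟨b, rfl⟩ := Ideal.Quotient.mk_surjective y
      exact ⟨AdicCompletion.of M B b, AdicCompletion.evalOneₐ_of M b⟩
    have : IsNoetherianRing (B ⧸ M) := by
      let _ := Ideal.Quotient.field (maximalIdeal B)
      exact (inferInstance : IsNoetherianRing (B ⧸ maximalIdeal B))
    rw [← AdicCompletion.ker_evalOneₐ_eq_map M hM]
    exact isNoetherianRing_of_ringEquiv _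
      (RingHom.quotientKerEquivOfSurjective hsurj).symm
  have : IsNoetherianRing (AdicCompletion M B) :=
    AdicLim.isNoetherianRing_of_isAdicComplete (hM.map (algebraMap B (AdicCompletion M B)))
  constructor
  intro I
  obtain ⟨T, hT, hspan⟩ := (Submodule.fg_span_iff_fg_span_finset_subset
    (R := AdicCompletion M B) (algebraMap B (AdicCompletion M B) '' (I : Set B))).1
    (IsNoetherian.noetherian _)
  obtain ⟨U, hU, rfl⟩ := Finset.subset_set_image_iff.1 hT
  suffices I = Ideal.span (U : Set B) by rw [this]; exact ⟨U, rfl⟩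
  refine le_antisymm (fun x hx => hclosed _ ⟨U, rfl⟩ x fun n => ?_) (Ideal.span_le.2 hU)
  have h1 : algebraMap B (AdicCompletion M B) x ∈
      (Ideal.span (U : Set B)).map (algebraMap B (AdicCompletion M B)) := by
    rw [Ideal.map_span]
    have : algebraMap B (AdicCompletion M B) x ∈
        Submodule.span (AdicCompletion M B) (algebraMap B _ '' (I : Set B)) :=
      Submodule.subset_span ⟨x, hx, rfl⟩
    rw [hspan, Finset.coe_image] at this
    exact this
  have h2 := Ideal.mem_map_of_mem (AdicCompletion.evalₐ M n).toRingHom h1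
  rw [Ideal.map_map, AlgHom.toRingHom_eq_coe, AlgHom.comp_algebraMap, RingHom.coe_coe,
    AlgHom.commutes, Ideal.Quotient.algebraMap_eq, Ideal.mem_quotient_iff_mem_sup] at h2
  exact h2

end Groth.Agent.ResExt
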