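import Mathlib

/-!
# Residue field extensions: the presentation

For a local ring `A` with residue field `k`, an extension `K/k` and a well-order on `K`, each
`x : K` gets an equation over the variables below it: zero if `x` is transcendental over the
field generated by its predecessors, a lift of its minimal equation otherwise.  The ring `B` is
`A[X_x : x ∈ K]`, modulo these equations, localized at the kernel of evaluation into `K`.
-/

set_option linter.unusedSectionVars false

namespace Groth.Agent.ResExt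

universe u

noncomputable section

open MvPolynomial IsLocalRing

variable (A K : Type u) [CommRing A] [IsLocalRing A] [Field K] [Algebra (ResidueField A) K]
  [Algebra A K] [IsScalarTower A (ResidueField A) K] [LinearOrder K]

abbrev P : Type u := MvPolynomial K A

noncomputable abbrev ev : P A K →ₐ[A] K := aeval id

abbrev below (x : K) : IntermediateField (ResidueField A) K :=
  IntermediateField.adjoin (ResidueField A) (Set.Iio x)

variable {A K}

omit [LinearOrder K] in
theorem adjoin_residue_subset (S : Set K) {y : K}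
    (hy : y ∈ Algebra.adjoin (ResidueField A) S) :
    ∃ p ∈ supported A S, ev A K p = y := by
  induction hy using Algebra.adjoin_induction with
  | mem z hz => exact ⟨X z, Algebra.subset_adjoin ⟨z, hz, rfl⟩, by simp⟩
  | algebraMap r =>
    obtain ⟨a, rfl⟩ := residue_surjective r
    exact ⟨C a, (supported A S).algebraMap_mem a,
      by simp [IsScalarTower.algebraMap_apply A (ResidueField A) K, ResidueField.algebraMap_eq]⟩
  | add _ _ _ _ h₁ h₂ =>
    obtain ⟨p, hp, rfl⟩ := h₁
    obtain ⟨q, hq, rfl⟩ := h₂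
    exact ⟨p + q, add_mem hp hq, map_add _ p q⟩
  | mul _ _ _ _ h₁ h₂ =>
    obtain ⟨p, hp, rfl⟩ := h₁
    obtain ⟨q, hq, rfl⟩ := h₂
    exact ⟨p * q, mul_mem hp hq, map_mul _ p q⟩

omit [LinearOrder K] in
theorem exists_fraction (S : Set K) {y : K}
    (hy : y ∈ IntermediateField.adjoin (ResidueField A) S) :
    ∃ p ∈ supported A S, ∃ q ∈ supported A S, ev A K q ≠ 0 ∧ y = ev A K p / ev A K q := by
  rw [IntermediateField.mem_adjoin_iff_div] at hy
  obtain ⟨r, hr, s, hs, rfl⟩ := hy
  obtain ⟨p, hp, rfl⟩ := adjoin_residue_subset S hr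
  obtain ⟨q, hq, rfl⟩ := adjoin_residue_subset S hs
  by_cases h : ev A K q = 0
  · exact ⟨0, zero_mem _, 1, one_mem _, by simp, by simp [h]⟩
  · exact ⟨p, hp, q, hq, h, rfl⟩

variable (A) in
/-- The equation `f` of `x`, with coefficients in the variables from `d`. -/
def IsStep (x : K) (d : Finset K) (f : P A K) : Prop :=
  (d : Set K) ⊆ Set.Iio x ∧
    ((f = 0 ∧ Transcendental ↥(below A K x) x) ∨
      ∃ (n : ℕ) (Q : P A K) (c : Fin n → P A K),
        Q ∈ supported A (d : Set K) ∧ (∀ i, c i ∈ supported A (d : Set K)) ∧ ev A K Q ≠ 0 ∧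
        ev A K f = 0 ∧ f = Q * X x ^ n + ∑ i, c i * X x ^ (i : ℕ) ∧
        ∀ q : Polynomial ↥(below A K x), q.degree < n → Polynomial.aeval x q = 0 → q = 0)

variable (A) in
theorem exists_isStep (x : K) : ∃ d f, IsStep A x d f := by
  classical
  by_cases hx : IsAlgebraic ↥(below A K x) x
  swap
  · exact ⟨∅, 0, by simp, .inl ⟨rfl, hx⟩⟩
  have hint := hx.isIntegral
  set μ := minpoly ↥(below A K x) x with hμ
  set n := μ.natDegree with hn
  have hrep : ∀ i : Fin n, ∃ p ∈ supported A (Set.Iio x), ∃ q ∈ supported A (Set.Iio x),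
      ev A K q ≠ 0 ∧ ((μ.coeff i : ↥(below A K x)) : K) = ev A K p / ev A K q :=
    fun i => exists_fraction _ (μ.coeff i).2
  choose p hp q hq hq0 hpq using hrep
  let Q : P A K := ∏ i, q i
  let c : Fin n → P A K := fun i => p i * ∏ j ∈ Finset.univ.erase i, q j
  let d : Finset K := Finset.univ.biUnion fun i => (p i).vars ∪ (q i).vars
  have hd : (d : Set K) ⊆ Set.Iio x := by
    intro z hz
    simp only [d, Finset.coe_biUnion, Set.mem_iUnion, Finset.coe_union] at hz
    obtain ⟨i, -, hz | hz⟩ := hz
    · exact mem_supported.1 (hp i) hz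
    · exact mem_supported.1 (hq i) hz
  have hqd : ∀ i, q i ∈ supported A (d : Set K) := fun i => mem_supported.2 fun z hz => by
    simp only [d, Finset.coe_biUnion, Set.mem_iUnion, Finset.coe_union]
    exact ⟨i, by simp, .inr hz⟩
  have hpd : ∀ i, p i ∈ supported A (d : Set K) := fun i => mem_supported.2 fun z hz => by
    simp only [d, Finset.coe_biUnion, Set.mem_iUnion, Finset.coe_union]
    exact ⟨i, by simp, .inl hz⟩
  have hQ0 : ev A K Q ≠ 0 := by
    simp only [Q, map_prod]
    exact Finset.prod_ne_zero_iff.2 fun i _ => hq0 i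
  refine ⟨d, Q * X x ^ n + ∑ i, c i * X x ^ (i : ℕ), hd, .inr ⟨n, Q, c,
    prod_mem fun i _ => hqd i, fun i => mul_mem (hpd i) (prod_mem fun j _ => hqd j), hQ0, ?_, rfl,
    ?_⟩⟩
  · have hc : ∀ i : Fin n, ev A K (c i) = ev A K Q * ((μ.coeff i : ↥(below A K x)) : K) := by
      intro i
      simp only [c, Q, map_mul]
      rw [hpq i, ← Finset.mul_prod_erase _ q (Finset.mem_univ i), map_mul]
      field_simp [hq0 i]
    have h0 : Polynomial.aeval x μ = 0 := minpoly.aeval _ x
    rw [Polynomial.aeval_eq_sum_range, ← hn, Finset.sum_range_succ] at h0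
    have hlead : μ.coeff n = 1 := (minpoly.monic hint).coeff_natDegree
    rw [hlead, one_smul] at h0
    simp only [map_add, map_mul, map_pow, map_sum, ev, aeval_X, id] at hc ⊢
    simp only [hc, mul_assoc]
    rw [← Finset.mul_sum, ← mul_add]
    refine mul_eq_zero_of_right _ ?_
    rw [Finset.sum_range, add_comm] at h0
    simpa [Algebra.smul_def] using h0
  · intro r hr h0
    by_contra hne
    have := minpoly.degree_le_of_ne_zero _ x hne h0
    rw [Polynomial.degree_eq_natDegree (minpoly.ne_zero hint)] at this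
    exact absurd (hr.trans_le this) (lt_irrefl _)

variable (A K) in
/-- A choice of equations. -/
structure Eqns where
  d : K → Finset K
  F : K → P A K
  isStep : ∀ x, IsStep A x (d x) (F x)

theorem Eqns.nonempty : Nonempty (Eqns A K) := by
  choose d F h using exists_isStep A (K := K)
  exact ⟨⟨d, F, h⟩⟩

namespace Eqns

variable (E : Eqns A K)

omit [IsScalarTower A (ResidueField A) K] in
theorem ev_F (x : K) : ev A K (E.F x) = 0 := by
  obtain ⟨-, ⟨h, -⟩ | ⟨n, Q, c, -, -, -, h, -⟩⟩ := E.isStep x
  · rw [h, map_zero]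
  · exact h

omit [IsScalarTower A (ResidueField A) K] in
theorem F_mem (x : K) : E.F x ∈ supported A (insert x (E.d x : Set K)) := by
  obtain ⟨-, ⟨h, -⟩ | ⟨n, Q, c, hQ, hc, -, -, h, -⟩⟩ := E.isStep x
  · rw [h]; exact zero_mem _
  · have hle : supported A (E.d x : Set K) ≤ supported A (insert x (E.d x : Set K)) :=
      supported_mono (Set.subset_insert _ _)
    have hX : (X x : P A K) ∈ supported A (insert x (E.d x : Set K)) :=
      Algebra.subset_adjoin ⟨x, Set.mem_insert _ _, rfl⟩
    rw [h]
    exact add_mem (mul_mem (hle hQ) (pow_mem hX _))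
      (sum_mem fun i _ => mul_mem (hle (hc i)) (pow_mem hX _))

/-- A finite set of variables closed under taking the variables of the equations. -/
def Closed (D : Finset K) : Prop := ∀ y ∈ D, E.d y ⊆ D

omit [IsScalarTower A (ResidueField A) K] in
theorem exists_closed [WellFoundedLT K] (T : Finset K) : ∃ D, T ⊆ D ∧ E.Closed D := by
  classical
  have h1 : ∀ x, ∃ D, x ∈ D ∧ E.Closed D := by
    intro x
    induction x using WellFoundedLT.induction with
    | ind x ih =>
      choose D hD hDc using ih
      refine ⟨insert x ((E.d x).attach.biUnion fun y => D y.1 ((E.isStep x).1 y.2)),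
        Finset.mem_insert_self _ _, ?_⟩
      intro y hy z hz
      rcases Finset.mem_insert.1 hy with rfl | hy
      · exact Finset.mem_insert_of_mem
          (Finset.mem_biUnion.2 ⟨⟨z, hz⟩, Finset.mem_attach _ _, hD _ _⟩)
      · obtain ⟨w, hw, hy⟩ := Finset.mem_biUnion.1 hy
        exact Finset.mem_insert_of_mem
          (Finset.mem_biUnion.2 ⟨w, hw, hDc _ _ y hy hz⟩)
  choose D hD hDc using h1
  refine ⟨T.biUnion D, fun x hx => Finset.mem_biUnion.2 ⟨x, hx, hD x⟩, fun y hy z hz => ?_⟩
  obtain ⟨w, hw, hy⟩ := Finset.mem_biUnion.1 hy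
  exact Finset.mem_biUnion.2 ⟨w, hw, hDc w y hy hz⟩

/-- The prime of `P` below `K`. -/
abbrev prime (A K : Type u) [CommRing A] [Field K] [Algebra A K] : Ideal (P A K) :=
  RingHom.ker (aeval id : P A K →ₐ[A] K)

instance (A K : Type u) [CommRing A] [Field K] [Algebra A K] : (prime A K).IsPrime :=
  RingHom.ker_isPrime _

abbrev Loc (A K : Type u) [CommRing A] [Field K] [Algebra A K] : Type u :=
  Localization.AtPrime (prime A K)

/-- The local algebra with residue field `K`. -/
def B : Type u :=
  Loc A K ⧸ (Ideal.span (Set.range E.F)).map (algebraMap (P A K) (Loc A K))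

instance instCommRing : CommRing E.B := inferInstanceAs (CommRing (Loc A K ⧸ _))

instance instAlgebra : Algebra A E.B := inferInstanceAs (Algebra A (Loc A K ⧸ _))

noncomputable def proj : Loc A K →ₐ[A] E.B :=
  Ideal.Quotient.mkₐ A ((Ideal.span (Set.range E.F)).map (algebraMap (P A K) (Loc A K)))

noncomputable def mkB : P A K →ₐ[A] E.B :=
  E.proj.comp (IsScalarTower.toAlgHom A (P A K) (Loc A K))

theorem proj_surjective : Function.Surjective E.proj := Ideal.Quotient.mk_surjective

theorem proj_eq_zero_iff (b : Loc A K) : E.proj b = 0 ↔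
    b ∈ (Ideal.span (Set.range E.F)).map (algebraMap (P A K) (Loc A K)) :=
  Ideal.Quotient.eq_zero_iff_mem

theorem span_le : Ideal.span (Set.range E.F) ≤ prime A K :=
  Ideal.span_le.2 (Set.range_subset_iff.2 fun x => RingHom.mem_ker.2 (E.ev_F x))

instance : IsLocalRing E.B :=
  have : Nontrivial E.B := (Ideal.Quotient.nontrivial_iff
    (I := (Ideal.span (Set.range E.F)).map (algebraMap (P A K) (Loc A K)))).2 fun h => by
    have := (Ideal.map_mono E.span_le).trans
      (le_of_eq (Localization.AtPrime.map_eq_maximalIdeal (I := prime A K)))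
    rw [h] at this
    exact (maximalIdeal.isMaximal (Loc A K)).ne_top (top_le_iff.1 this)
  IsLocalRing.of_surjective' E.proj.toRingHom E.proj_surjective

noncomputable def evLoc : Loc A K →ₐ[A] K :=
  IsLocalization.liftAlgHom (M := (prime A K).primeCompl) (f := ev A K)
    fun y => isUnit_iff_ne_zero.2 y.2

/-- The residue map. -/
noncomputable def res : E.B →ₐ[A] K :=
  Ideal.Quotient.liftₐ _ evLoc fun b hb => by
    refine RingHom.mem_ker.1 (Ideal.map_le_iff_le_comap.2 (fun p hp => ?_) hb :
      b ∈ RingHom.ker (evLoc : Loc A K →ₐ[A] K))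
    simpa [Ideal.mem_comap, evLoc] using RingHom.mem_ker.1 (E.span_le hp)

theorem res_mkB (p : P A K) : E.res (E.mkB p) = ev A K p := by
  change evLoc (algebraMap (P A K) (Loc A K) p) = _
  simp [evLoc]

theorem res_surjective : Function.Surjective E.res := fun y => ⟨E.mkB (X y), by simp [res_mkB]⟩

instance : IsLocalHom E.res := by
  have hmax : RingHom.ker E.res.toRingHom = maximalIdeal E.B :=
    @IsLocalRing.eq_maximalIdeal E.B _ _ _
      (RingHom.ker_isMaximal_of_surjective E.res.toRingHom E.res_surjective)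
  exact ⟨fun b hb => notMem_maximalIdeal.1 fun h => hb.ne_zero (RingHom.mem_ker.1 (hmax ▸ h))⟩

theorem isUnit_iff (b : E.B) : IsUnit b ↔ E.res b ≠ 0 :=
  ⟨fun h => (h.map E.res).ne_zero, fun h => IsUnit.of_map E.res b (isUnit_iff_ne_zero.2 h)⟩

theorem exists_fraction (b : E.B) :
    ∃ p s : P A K, ev A K s ≠ 0 ∧ E.mkB s * b = E.mkB p := by
  obtain ⟨l, rfl⟩ := E.proj_surjective b
  obtain ⟨p, ⟨s, hs⟩, rfl⟩ := IsLocalization.exists_mk'_eq (prime A K).primeCompl l
  refine ⟨p, s, hs, ?_⟩
  change E.proj (algebraMap _ _ s) * _ = E.proj (algebraMap _ _ p)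
  rw [← map_mul]
  exact congrArg _ (IsLocalization.mk'_spec' (Loc A K) p (⟨s, hs⟩ : (prime A K).primeCompl))

theorem mkB_eq_zero_iff (p : P A K) :
    E.mkB p = 0 ↔ ∃ s, ev A K s ≠ 0 ∧ s * p ∈ Ideal.span (Set.range E.F) := by
  change E.proj (algebraMap (P A K) (Loc A K) p) = 0 ↔ _
  rw [E.proj_eq_zero_iff,
    IsLocalization.algebraMap_mem_map_algebraMap_iff (prime A K).primeCompl]
  rfl

theorem mkB_F (x : K) : E.mkB (E.F x) = 0 :=
  (E.mkB_eq_zero_iff _).2 ⟨1, by simp, by
    rw [one_mul]; exact Ideal.subset_span ⟨x, rfl⟩⟩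

end Eqns

end

end Groth.Agent.ResExt
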