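import Groth.Agent.ResExt.Data

/-!
# Residue field extensions: finite stages

For a finite closed set `D` of variables there is a local ring `R`, flat over `A` and with
maximal ideal generated by that of `A`, carrying the equations indexed by `D` and mapping
compatibly to `B`.
-/

set_option linter.unusedSectionVars false

namespace Groth.Agent.ResExt

universe u

noncomputable section

open MvPolynomial IsLocalRing

variable {A K : Type u} [CommRing A] [IsLocalRing A] [Field K] [Algebra (ResidueField A) K]
  [Algebra A K] [IsScalarTower A (ResidueField A) K] [LinearOrder K]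

theorem algebraMap_eq_zero_of_mem {a : A} (ha : a ∈ maximalIdeal A) : algebraMap A K a = 0 := by
  rw [IsScalarTower.algebraMap_apply A (ResidueField A) K, ResidueField.algebraMap_eq,
    (residue_eq_zero_iff a).2 ha, map_zero]

theorem mem_of_algebraMap_eq_zero {a : A} (ha : algebraMap A K a = 0) : a ∈ maximalIdeal A := by
  rw [IsScalarTower.algebraMap_apply A (ResidueField A) K, ResidueField.algebraMap_eq,
    map_eq_zero] at ha
  exact (residue_eq_zero_iff a).1 ha

theorem algHom_eq_zero_of_mem_map {S : Type u} [CommRing S] [Algebra A S] (f : S →ₐ[A] K) {s : S}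
    (hs : s ∈ (maximalIdeal A).map (algebraMap A S)) : f s = 0 := by
  have : (maximalIdeal A).map (algebraMap A S) ≤ RingHom.ker f.toRingHom :=
    Ideal.map_le_iff_le_comap.2 fun a ha => by
      rw [Ideal.mem_comap, RingHom.mem_ker]
      exact (f.commutes a).trans (algebraMap_eq_zero_of_mem ha)
  exact this hs

namespace Eqns

variable (E : Eqns A K)

/-- There is a model of the stage `D`. -/
def Good (D : Finset K) : Prop :=
  ∃ (R : Type u) (_ : CommRing R) (_ : Algebra A R) (_ : IsLocalRing R),
    (IsNoetherianRing A → IsNoetherianRing R) ∧ Module.Flat A R ∧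
    maximalIdeal R = (maximalIdeal A).map (algebraMap A R) ∧
    ∃ (θ : R →ₐ[A] E.B) (ψ : P A K →ₐ[A] R),
      (∀ y ∈ D, ψ (E.F y) = 0 ∧ θ (ψ (X y)) = E.mkB (X y)) ∧
      ∀ r, E.res (θ r) ∈ IntermediateField.adjoin (ResidueField A) (D : Set K)

theorem isUnit_of_stage {R : Type u} [CommRing R] [Algebra A R] [IsLocalRing R]
    (hR : maximalIdeal R = (maximalIdeal A).map (algebraMap A R)) (θ : R →ₐ[A] E.B) {r : R}
    (hr : E.res (θ r) ≠ 0) : IsUnit r :=
  notMem_maximalIdeal.1 fun h => hr <|
    algHom_eq_zero_of_mem_map (E.res.comp θ) (hR ▸ h)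

/-- The localization of a candidate stage is a stage. -/
theorem good_of_model (D : Finset K) (S : Type u) [CommRing S] [Algebra A S]
    (hS : IsNoetherianRing A → IsNoetherianRing S) [Module.Flat A S] (φ : S →ₐ[A] E.B)
    (ψ : P A K →ₐ[A] S) (hψ : ∀ y ∈ D, ψ (E.F y) = 0 ∧ φ (ψ (X y)) = E.mkB (X y))
    (hker : ∀ s, E.res (φ s) = 0 → s ∈ (maximalIdeal A).map (algebraMap A S))
    (himg : ∀ s, E.res (φ s) ∈ IntermediateField.adjoin (ResidueField A) (D : Set K)) :
    E.Good D := by
  let Q : Ideal S := RingHom.ker (E.res.comp φ).toRingHom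
  have : Q.IsPrime := RingHom.ker_isPrime _
  have hQ : Q = (maximalIdeal A).map (algebraMap A S) :=
    le_antisymm (fun s hs => hker s hs) fun s hs => algHom_eq_zero_of_mem_map (E.res.comp φ) hs
  let θ : Localization.AtPrime Q →ₐ[A] E.B :=
    IsLocalization.liftAlgHom (R := S) (S := Localization.AtPrime Q) (P := E.B)
      (M := Q.primeCompl) (f := φ) fun s => (E.isUnit_iff _).2 s.2
  refine ⟨Localization.AtPrime Q, inferInstance, inferInstance, inferInstance, fun h => ?_, ?_,
    ?_, θ, (IsScalarTower.toAlgHom A S (Localization.AtPrime Q)).comp ψ, ?_, ?_⟩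
  · have := hS h
    exact IsLocalization.isNoetherianRing Q.primeCompl _ ‹_›
  · have : Module.Flat S (Localization.AtPrime Q) :=
      IsLocalization.flat (Localization.AtPrime Q) Q.primeCompl
    exact Module.Flat.trans A S _
  · rw [← Localization.AtPrime.map_eq_maximalIdeal,
      IsScalarTower.algebraMap_eq A S (Localization.AtPrime Q), ← Ideal.map_map]
    exact congrArg (Ideal.map _) hQ
  · intro y hy
    refine ⟨?_, ?_⟩
    · simp [(hψ y hy).1]
    · simp [θ, (hψ y hy).2]
  · intro r
    obtain ⟨a, s, rfl⟩ := IsLocalization.exists_mk'_eq Q.primeCompl r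
    have h1 : E.res (θ (IsLocalization.mk' (Localization.AtPrime Q) a s)) * E.res (φ s) =
        E.res (φ a) := by
      rw [← map_mul]
      congr 1
      conv_rhs => rw [show φ a = θ (algebraMap S (Localization.AtPrime Q) a) by simp [θ]]
      rw [show φ s = θ (algebraMap S (Localization.AtPrime Q) s) by simp [θ], ← map_mul,
        IsLocalization.mk'_spec]
    rw [eq_div_of_mul_eq (show E.res (φ s) ≠ 0 from s.2) h1]
    exact div_mem (himg a) (himg s)

theorem good_empty : E.Good ∅ := by
  refine E.good_of_model ∅ A (fun h => h) (Algebra.ofId A E.B) (aeval fun _ => 0)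
    (fun y hy => absurd hy (Finset.notMem_empty y)) (fun a ha => ?_) fun a => ?_
  · rw [Algebra.ofId_apply, AlgHom.commutes] at ha
    rw [Algebra.algebraMap_self, Ideal.map_id]
    exact mem_of_algebraMap_eq_zero ha
  · rw [Algebra.ofId_apply, AlgHom.commutes,
      IsScalarTower.algebraMap_apply A (ResidueField A) K]
    exact IntermediateField.algebraMap_mem _ _

theorem mem_map_of_eval {x : K} {R : Type u} [CommRing R] [Algebra A R] [IsLocalRing R]
    (hR : maximalIdeal R = (maximalIdeal A).map (algebraMap A R)) (θ : R →ₐ[A] E.B)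
    (himg : ∀ r, E.res (θ r) ∈ below A K x) (h : Polynomial R)
    (hind : ∀ q : Polynomial ↥(below A K x), q.degree ≤ h.degree → Polynomial.aeval x q = 0 →
      q = 0)
    (h0 : h.eval₂ (E.res.comp θ).toRingHom x = 0) :
    h ∈ (maximalIdeal A).map (algebraMap A (Polynomial R)) := by
  let ρ : R →+* ↥(below A K x) := (E.res.comp θ).toRingHom.codRestrict _ himg
  have h1 : h.map ρ = 0 := by
    refine hind _ Polynomial.degree_map_le ?_
    rw [Polynomial.aeval_def, Polynomial.eval₂_map]
    exact h0
  rw [IsScalarTower.algebraMap_eq A R (Polynomial R), ← Ideal.map_map, ← hR,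
    Polynomial.algebraMap_eq, Ideal.mem_map_C_iff]
  intro i
  have h2 := congrArg (fun q : Polynomial ↥(below A K x) => ((q.coeff i : ↥(below A K x)) : K)) h1
  simp only [Polynomial.coeff_map, Polynomial.coeff_zero, ZeroMemClass.coe_zero] at h2
  exact (IsLocalRing.mem_maximalIdeal _).2 fun hu => (hu.map (E.res.comp θ)).ne_zero h2

theorem eval₂_mem_adjoin {D : Set K} {x : K} (hx : x ∈ D) {R : Type u} [CommRing R]
    (ρ : R →+* K) (hρ : ∀ r, ρ r ∈ IntermediateField.adjoin (ResidueField A) D)
    (h : Polynomial R) : h.eval₂ ρ x ∈ IntermediateField.adjoin (ResidueField A) D := by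
  induction h using Polynomial.induction_on' with
  | add p q hp hq => rw [Polynomial.eval₂_add]; exact add_mem hp hq
  | monomial n a =>
    rw [Polynomial.eval₂_monomial]
    exact mul_mem (hρ a) (pow_mem (IntermediateField.subset_adjoin _ _ hx) n)

theorem good_insert (x : K) (s : Finset K) (hlt : ∀ y ∈ s, y < x) (hd : E.d x ⊆ s)
    (hs : E.Closed s) (hgood : E.Good s) : E.Good (insert x s) := by
  classical
  obtain ⟨R, _, _, _, hN, hflat, hR, θ, ψ, hψ, himg⟩ := hgood
  have hθψ : ∀ p ∈ supported A (s : Set K), θ (ψ p) = E.mkB p := fun p hp =>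
    AlgHom.adjoin_le_equalizer (θ.comp ψ) E.mkB
      (by rintro _ ⟨y, hy, rfl⟩; exact (hψ y hy).2) hp
  have hle : IntermediateField.adjoin (ResidueField A) (s : Set K) ≤ below A K x :=
    IntermediateField.adjoin.mono _ _ _ fun y hy => hlt y hy
  have hsub : IntermediateField.adjoin (ResidueField A) (s : Set K) ≤
      IntermediateField.adjoin (ResidueField A) ((insert x s : Finset K) : Set K) :=
    IntermediateField.adjoin.mono _ _ _ (by simp)
  have hxD : x ∈ ((insert x s : Finset K) : Set K) := by simp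
  -- the new values of the variables
  have key : ∀ (S : Type u) [CommRing S] [Algebra A S] (ι : R →ₐ[A] S) (t : S) (φ : S →ₐ[A] E.B),
      φ.comp ι = θ → φ t = E.mkB (X x) →
      ∃ ψ' : P A K →ₐ[A] S, ψ' (X x) = t ∧ (∀ p ∈ supported A (s : Set K), ψ' p = ι (ψ p)) ∧
        (∀ y ∈ s, ψ' (E.F y) = 0 ∧ φ (ψ' (X y)) = E.mkB (X y)) := by
    intro S _ _ ι t φ hφ ht
    let ψ' : P A K →ₐ[A] S := aeval fun y => if y = x then t else ι (ψ (X y))
    have hext : ∀ p ∈ supported A (s : Set K), ψ' p = ι (ψ p) := fun p hp =>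
      AlgHom.adjoin_le_equalizer ψ' (ι.comp ψ) (by
        rintro _ ⟨y, hy, rfl⟩
        simp [ψ', (hlt y hy).ne]) hp
    refine ⟨ψ', by simp [ψ'], hext, fun y hy => ⟨?_, ?_⟩⟩
    · rw [hext _ (supported_mono (R := A) ?_ (E.F_mem y)), (hψ y hy).1, map_zero]
      exact Set.insert_subset hy (by exact_mod_cast hs y hy)
    · rw [hext _ (Algebra.subset_adjoin ⟨y, hy, rfl⟩), ← AlgHom.comp_apply, hφ, (hψ y hy).2]
  obtain ⟨-, ⟨hF, htr⟩ | ⟨n, Q, c, hQ, hc, hQ0, -, hF, hind⟩⟩ := E.isStep x
  · -- transcendental
    let φ : Polynomial R →ₐ[A] E.B := Polynomial.aevalTower θ (E.mkB (X x))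
    obtain ⟨ψ', hψx, -, hψ'⟩ := key (Polynomial R)
      (IsScalarTower.toAlgHom A R (Polynomial R)) Polynomial.X φ
      (by ext r; simp [φ, Polynomial.algebraMap_eq]) (by simp [φ])
    have hres : ∀ h : Polynomial R, E.res (φ h) = h.eval₂ (E.res.comp θ).toRingHom x := by
      intro h
      induction h using Polynomial.induction_on' with
      | add p q hp hq => rw [map_add, map_add, hp, hq, Polynomial.eval₂_add]
      | monomial n a =>
        simp [φ, ← Polynomial.C_mul_X_pow_eq_monomial, E.res_mkB]
    have : Module.Flat A (Polynomial R) := Module.Flat.trans A R _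
    refine E.good_of_model _ (Polynomial R) (fun h => ?_) φ ψ' ?_ ?_ ?_
    · have := hN h; infer_instance
    · intro y hy
      rcases Finset.mem_insert.1 hy with rfl | hy
      · exact ⟨by rw [hF, map_zero], by rw [hψx]; simp [φ]⟩
      · exact hψ' y hy
    · intro h h0
      exact E.mem_map_of_eval hR θ (fun r => hle (himg r)) h
        (fun q _ hq => transcendental_iff.1 htr q hq) (by rw [← hres]; exact h0)
    · intro h
      rw [hres]
      exact eval₂_mem_adjoin hxD _ (fun r => hsub (himg r)) h
  · -- algebraic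
    have hdsup : supported A (E.d x : Set K) ≤ supported A (s : Set K) :=
      supported_mono (by exact_mod_cast hd)
    have hQu : IsUnit (ψ Q) := by
      refine E.isUnit_of_stage hR θ ?_
      rwa [hθψ Q (hdsup hQ), E.res_mkB]
    obtain ⟨v, hv⟩ := hQu
    let g : Polynomial R := Polynomial.X ^ n +
      ∑ i : Fin n, Polynomial.C (((v⁻¹ : Rˣ) : R) * ψ (c i)) * Polynomial.X ^ (i : ℕ)
    have hdeg : (∑ i : Fin n, Polynomial.C (((v⁻¹ : Rˣ) : R) * ψ (c i)) * Polynomial.X ^ (i : ℕ)).degree < (n : WithBot ℕ) :=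
      Polynomial.degree_sum_fin_lt _
    have hg : g.Monic := Polynomial.monic_X_pow_add hdeg
    have hFeq : ∀ (S : Type u) [CommRing S] [Algebra A S] (f : P A K →ₐ[A] S) (ι : R →ₐ[A] S),
        (∀ p ∈ supported A (s : Set K), f p = ι (ψ p)) →
        f (E.F x) = ι (ψ Q) * g.eval₂ ι.toRingHom (f (X x)) := by
      intro S _ _ f ι hfι
      have hmul : ι (ψ Q) * ι ((v⁻¹ : Rˣ) : R) = 1 := by
        rw [← map_mul, ← hv, Units.mul_inv, map_one]
      simp only [hF, map_add, map_sum, map_mul, map_pow, hfι _ (hdsup hQ),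
        fun i => hfι _ (hdsup (hc i)), g, Polynomial.eval₂_add, Polynomial.eval₂_finsetSum,
        Polynomial.eval₂_mul, Polynomial.eval₂_pow, Polynomial.eval₂_X, Polynomial.eval₂_C,
        AlgHom.toRingHom_eq_coe, RingHom.coe_coe, mul_add, Finset.mul_sum, ← mul_assoc, hmul, one_mul]
    have hroot : g.eval₂ θ (E.mkB (X x)) = 0 := by
      have h1 := hFeq E.B E.mkB θ fun p hp => (hθψ p hp).symm
      rw [E.mkB_F, ← hv] at h1
      exact (IsUnit.mul_right_eq_zero ((Units.isUnit v).map θ)).1 h1.symm
    let φ : AdjoinRoot g →ₐ[A] E.B := AdjoinRoot.liftAlgHom g θ (E.mkB (X x)) hroot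
    obtain ⟨ψ', hψx, hext, hψ'⟩ := key (AdjoinRoot g)
      (IsScalarTower.toAlgHom A R (AdjoinRoot g)) (AdjoinRoot.root g) φ
      (by ext r; simp [φ, AdjoinRoot.algebraMap_eq]) (by simp [φ])
    have hres : ∀ h : Polynomial R,
        E.res (φ (AdjoinRoot.mk g h)) = h.eval₂ (E.res.comp θ).toRingHom x := by
      intro h
      induction h using Polynomial.induction_on' with
      | add p q hp hq => rw [map_add, map_add, map_add, hp, hq, Polynomial.eval₂_add]
      | monomial n a =>
        simp [φ, ← Polynomial.C_mul_X_pow_eq_monomial, E.res_mkB]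
    have : Module.Free R (AdjoinRoot g) := hg.free_adjoinRoot
    have : Module.Flat A (AdjoinRoot g) := Module.Flat.trans A R _
    refine E.good_of_model _ (AdjoinRoot g) (fun h => ?_) φ ψ' ?_ ?_ ?_
    · have := hN h; infer_instance
    · intro y hy
      rcases Finset.mem_insert.1 hy with rfl | hy
      · refine ⟨?_, by rw [hψx]; simp [φ]⟩
        rw [hFeq _ ψ' _ hext, hψx]
        have := AdjoinRoot.eval₂_root g
        simp only [AlgHom.toRingHom_eq_coe, IsScalarTower.coe_toAlgHom, AdjoinRoot.algebraMap_eq]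
        rw [this, mul_zero]
      · exact hψ' y hy
    · intro z hz
      obtain ⟨h, rfl⟩ := AdjoinRoot.mk_surjective z
      have hmk : AdjoinRoot.mk g h = AdjoinRoot.mk g (h %ₘ g) := AdjoinRoot.mk_eq_mk.2
        ⟨h /ₘ g, by rw [eq_comm, eq_sub_iff_add_eq, add_comm]; exact Polynomial.modByMonic_add_div h g⟩
      rw [hmk] at hz ⊢
      rw [hres] at hz
      have hm := E.mem_map_of_eval hR θ (fun r => hle (himg r)) _ (fun q hq => hind q ?_) hz
      · have := Ideal.mem_map_of_mem (AdjoinRoot.mk g) hm
        rwa [Ideal.map_map, show (AdjoinRoot.mk g).comp (algebraMap A (Polynomial R)) =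
          algebraMap A (AdjoinRoot g) from rfl] at this
      · refine hq.trans_lt ((Polynomial.degree_modByMonic_lt h hg).trans_eq ?_)
        change (Polynomial.X ^ n + _ : Polynomial R).degree = _
        rw [Polynomial.degree_add_eq_left_of_degree_lt (by rwa [Polynomial.degree_X_pow]),
          Polynomial.degree_X_pow]
    · intro z
      obtain ⟨h, rfl⟩ := AdjoinRoot.mk_surjective z
      rw [hres]
      exact eval₂_mem_adjoin hxD _ (fun r => hsub (himg r)) h

theorem good_of_closed (D : Finset K) (hD : E.Closed D) : E.Good D := by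
  induction D using Finset.induction_on_max with
  | empty => exact E.good_empty
  | insert a s hlt ih =>
    have hmem : ∀ y ∈ insert a s, y ≤ a := fun y hy => by
      rcases Finset.mem_insert.1 hy with rfl | hy
      exacts [le_rfl, (hlt y hy).le]
    have hcl : ∀ y ∈ insert a s, E.d y ⊆ s := fun y hy z hz => by
      rcases Finset.mem_insert.1 (hD y hy hz) with rfl | h
      · exact absurd ((E.isStep y).1 hz) (not_lt.2 (hmem y hy))
      · exact h
    have hs : E.Closed s := fun y hy => hcl y (Finset.mem_insert_of_mem hy)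
    exact E.good_insert a s hlt (hcl a (Finset.mem_insert_self _ _)) hs (ih hs)

end Eqns

end

end Groth.Agent.ResExt
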